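import Mathlib
import Groth.Agent.Lib.Hensel.Normal
import Groth.Agent.Lib.Serre.Smooth
import Groth.Agent.Lib.RegLoc.Normal
import Groth.Agent.Lib.CMFree.Regular
import Groth.Agent.Lib.EtBasicB.LocalRings

/-! # Normality along smooth ring maps -/

open TensorProduct

universe u

namespace GrothLib.NormalSmooth

section AbsFlat

variable {E L : Type u} [CommRing E] [CommRing L] [Algebra E L]

set_option maxHeartbeats 800000 in
theorem normal_localization_of_regular (hinj : Function.Injective (algebraMap E L))
    (hreg : ∀ a : L, ∃ a', a * a * a' = a) (hint : ∀ z : L, IsIntegral E z → ∃ x, algebraMap E L x = z)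
    (q : Ideal E) [hq : q.IsPrime] :
    IsDomain (Localization.AtPrime q) ∧ IsIntegrallyClosed (Localization.AtPrime q) := by
  classical
  let Eq := Localization.AtPrime q
  let T := Algebra.algebraMapSubmonoid L q.primeCompl
  let M := Localization T
  letI algEM : Algebra Eq M := localizationAlgebra q.primeCompl L
  haveI : IsScalarTower E Eq M := IsScalarTower.of_algebraMap_eq fun x => by
    show algebraMap E M x = IsLocalization.map _ (algebraMap E L) _ (algebraMap E Eq x)
    rw [IsLocalization.map_eq, ← IsScalarTower.algebraMap_apply]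
  have hinj' : Function.Injective (algebraMap Eq M) := by
    rw [injective_iff_map_eq_zero]
    intro x hx
    obtain ⟨⟨a, s⟩, hxs⟩ := IsLocalization.surj q.primeCompl x
    have h0 : algebraMap L M (algebraMap E L a) = 0 := by
      rw [← IsScalarTower.algebraMap_apply, IsScalarTower.algebraMap_apply E Eq M, ← hxs, map_mul, hx,
        zero_mul]
    obtain ⟨⟨_, u, hu, rfl⟩, hmu⟩ := (IsLocalization.map_eq_zero_iff T M _).mp h0
    have : u * a = 0 := hinj (by rw [map_mul, map_zero]; exact hmu)
    have ha : algebraMap E Eq a = 0 := (IsLocalization.map_eq_zero_iff q.primeCompl Eq a).mpr ⟨⟨u, hu⟩, this⟩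
    exact (IsLocalization.map_units Eq s).mul_left_eq_zero.mp (hxs.trans ha)
  have hint' : ∀ z : M, IsIntegral Eq z → ∃ x, algebraMap Eq M x = z := by
    intro z hz
    obtain ⟨⟨m, hm⟩, hmz⟩ := IsIntegral.exists_multiple_integral_of_isLocalization q.primeCompl z hz
    simp only [Submonoid.smul_def, Algebra.smul_def] at hmz
    obtain ⟨⟨x, _, s, hs, rfl⟩, hxs⟩ := IsLocalization.surj T z
    simp only [← IsScalarTower.algebraMap_apply] at hxs
    have h1 : IsIntegral E (algebraMap L M (m • x)) := by
      rw [Algebra.smul_def, map_mul, ← IsScalarTower.algebraMap_apply, ← hxs, ← mul_assoc]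
      exact hmz.mul isIntegral_algebraMap
    obtain ⟨m', hm', hm'x⟩ := IsLocalization.exists_isIntegral_smul_of_isIntegral_map (Sₘ := M)
      q.primeCompl h1
    obtain ⟨e, he⟩ := hint _ hm'x
    set sS : q.primeCompl := ⟨m' * m * s, mul_mem (mul_mem hm' hm) hs⟩ with hsS
    refine ⟨IsLocalization.mk' Eq e sS, ?_⟩
    have hu : IsUnit (algebraMap E M (m' * m * s)) := by
      rw [IsScalarTower.algebraMap_apply E Eq M]
      exact IsUnit.map (algebraMap Eq M) (IsLocalization.map_units (M := q.primeCompl) Eq sS)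
    refine hu.mul_left_inj.mp ?_
    conv_lhs => rw [IsScalarTower.algebraMap_apply E Eq M, ← map_mul]
    rw [show IsLocalization.mk' Eq e sS * algebraMap E Eq (m' * m * s) = algebraMap E Eq e from
        IsLocalization.mk'_spec (M := q.primeCompl) Eq e sS,
      ← IsScalarTower.algebraMap_apply, IsScalarTower.algebraMap_apply E L M, he, Algebra.smul_def,
      Algebra.smul_def, map_mul, map_mul, map_mul, map_mul, ← IsScalarTower.algebraMap_apply,
      ← IsScalarTower.algebraMap_apply, ← hxs]
    ring
  haveI : Nontrivial M := hinj'.nontrivial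
  have hregM : ∀ a : M, a ≠ 0 → IsUnit a := by
    intro a ha
    obtain ⟨⟨l, t⟩, hlt⟩ := IsLocalization.surj T a
    obtain ⟨l', hl'⟩ := hreg l
    set a' := algebraMap L M t * algebraMap L M l'
    have haa : a * a * a' = a := by
      have h := congrArg (algebraMap L M) hl'
      rw [map_mul, map_mul, ← hlt] at h
      refine (IsLocalization.map_units M t).mul_left_inj.mp ?_
      simp only [a']
      linear_combination h
    have hee : IsIdempotentElem (a * a') := by
      show _ * _ = _
      linear_combination a' * haa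
    obtain ⟨e, he⟩ := hint' _ ⟨Polynomial.X * (Polynomial.X - 1),
      Polynomial.monic_X.mul (Polynomial.monic_X_sub_C 1), by
        rw [← Polynomial.aeval_def, map_mul, map_sub, Polynomial.aeval_X, map_one, mul_sub, hee.eq,
          mul_one, sub_self]⟩
    have hei : IsIdempotentElem e := hinj' (by rw [map_mul, he, hee.eq])
    rcases (IsLocalRing.isUnit_or_isUnit_one_sub_self e) with h | h
    · have h1 : e = 1 := by
        have := hei.eq
        exact h.mul_left_cancel (by rw [this, mul_one])
      rw [h1, map_one] at he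
      exact IsUnit.of_mul_eq_one _ he.symm
    · have h1 : e = 0 := h.mul_left_eq_zero.mp (by rw [mul_sub, mul_one, hei.eq, sub_self])
      rw [h1, map_zero] at he
      exact absurd (haa.symm.trans (by rw [mul_assoc, ← he, mul_zero])) ha
  letI : Field M := (Field.ofIsUnitOrEqZero fun a => or_iff_not_imp_right.mpr (hregM a))
  haveI : IsDomain Eq := hinj'.isDomain
  refine ⟨inferInstance, (isIntegrallyClosed_iff (FractionRing Eq)).mpr fun {x} hx => ?_⟩
  let ψ : FractionRing Eq →ₐ[Eq] M := IsFractionRing.liftAlgHom (g := Algebra.ofId Eq M) hinj'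
  obtain ⟨y, hy⟩ := hint' (ψ x) (hx.map ψ)
  exact ⟨y, ψ.toRingHom.injective ((ψ.commutes y).trans hy.symm.symm)⟩

end AbsFlat

/-- A Noetherian ring with normal local rings is integrally closed in its total ring of fractions. -/
theorem exists_eq_of_isIntegral_pi (L : Type u) [CommRing L] [IsNoetherianRing L]
    (hL : ∀ (P : Ideal L) [P.IsPrime], IsDomain (Localization.AtPrime P) ∧ IsIntegrallyClosed (Localization.AtPrime P))
    (z : ∀ P : minimalPrimes L, haveI := P.2.1.1; FractionRing (L ⧸ P.1)) (hz : IsIntegral L z) :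
    ∃ x : L, ∀ P : minimalPrimes L, haveI := P.2.1.1; z P = algebraMap L (FractionRing (L ⧸ P.1)) x := by
  classical
  haveI : ∀ P : minimalPrimes L, P.1.IsPrime := fun P => P.2.1.1
  let I : Ideal L :=
    { carrier := {l | ∃ x : L, ∀ P : minimalPrimes L, l • z P = algebraMap L (FractionRing (L ⧸ P.1)) x}
      zero_mem' := ⟨0, fun P => by rw [map_zero, zero_smul]⟩
      add_mem' := by
        rintro a b ⟨x, hx⟩ ⟨y, hy⟩
        exact ⟨x + y, fun P => by rw [add_smul, map_add, hx, hy]⟩
      smul_mem' := by
        rintro c a ⟨x, hx⟩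
        exact ⟨c * x, fun P => by rw [smul_eq_mul, mul_smul, hx, map_mul, Algebra.smul_def]⟩ }
  suffices hI : I = ⊤ by
    obtain ⟨x, hx⟩ : (1 : L) ∈ I := hI ▸ trivial
    exact ⟨x, fun P => by have := hx P; rwa [one_smul] at this⟩
  by_contra hne
  obtain ⟨m, hm, hIm⟩ := Ideal.exists_le_maximal I hne
  obtain ⟨hd, hic⟩ := hL m
  let Lm := Localization.AtPrime m
  set q0 := RingHom.ker (algebraMap L Lm) with hq0
  haveI : q0.IsPrime := RingHom.ker_isPrime _
  have hle : ∀ P : Ideal L, P.IsPrime → P ≤ m → q0 ≤ P := by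
    intro P hP hPp x hx
    obtain ⟨s, hs⟩ := (IsLocalization.map_eq_zero_iff m.primeCompl Lm x).mp hx
    exact (hP.mem_or_mem (hs ▸ P.zero_mem : (s : L) * x ∈ P)).resolve_left fun h => s.2 (hPp h)
  obtain ⟨P₀, hP₀, hP₀m⟩ := Ideal.exists_minimalPrimes_le (bot_le : (⊥ : Ideal L) ≤ m)
  haveI := hP₀.1.1
  have hq0P : q0 = P₀ := le_antisymm (hle P₀ hP₀.1.1 hP₀m)
    (hP₀.2 ⟨inferInstance, bot_le⟩ (hle P₀ hP₀.1.1 hP₀m))
  have key : ∀ P : minimalPrimes L, P.1 ≠ P₀ → ∃ u ∈ P.1, u ∉ m := by
    intro P hne
    refine Set.not_subset.mp fun h => hne ?_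
    exact le_antisymm (hP₀.1.1.ne_top |> fun _ => P.2.2 ⟨hP₀.1.1, bot_le⟩ (hq0P ▸ hle P.1 P.2.1.1 h))
      (hq0P ▸ hle P.1 P.2.1.1 h)
  choose! g hg1 hg2 using key
  haveI : Finite (minimalPrimes L) := (minimalPrimes.finite_of_isNoetherianRing L).to_subtype
  haveI := Fintype.ofFinite (minimalPrimes L)
  let u := ∏ P ∈ Finset.univ.filter (fun P : minimalPrimes L => P.1 ≠ P₀), g P
  have hu : u ∉ m := fun h => by
    obtain ⟨P, hP, hgP⟩ := (Ideal.IsPrime.prod_mem_iff (p := m)).mp h
    exact hg2 P (Finset.mem_filter.mp hP).2 hgP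
  -- the component at `P₀`
  set P0 : minimalPrimes L := ⟨P₀, hP₀⟩
  let F := FractionRing (L ⧸ P₀)
  have hunit : ∀ s : m.primeCompl, IsUnit (algebraMap L F s) := fun s => by
    refine isUnit_iff_ne_zero.mpr fun h => s.2 (hP₀m ?_)
    rw [IsScalarTower.algebraMap_apply L (L ⧸ P₀) F] at h
    exact Ideal.Quotient.eq_zero_iff_mem.mp ((map_eq_zero_iff _ (IsFractionRing.injective _ _)).mp h)
  letI algLm : Algebra Lm F := (IsLocalization.lift hunit).toAlgebra
  haveI : IsScalarTower L Lm F := IsScalarTower.of_algebraMap_eq fun x => (IsLocalization.lift_eq hunit x).symm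
  have hinjm : Function.Injective (algebraMap Lm F) := by
    rw [injective_iff_map_eq_zero]
    intro x hx
    obtain ⟨⟨a, s⟩, hxs⟩ := IsLocalization.surj m.primeCompl x
    have h0 : algebraMap L F a = 0 := by
      rw [IsScalarTower.algebraMap_apply L Lm F, ← hxs, map_mul, hx, zero_mul]
    rw [IsScalarTower.algebraMap_apply L (L ⧸ P₀) F] at h0
    have haP : a ∈ q0 := hq0P ▸
      Ideal.Quotient.eq_zero_iff_mem.mp ((map_eq_zero_iff _ (IsFractionRing.injective _ _)).mp h0)
    exact (IsLocalization.map_units Lm s).mul_left_eq_zero.mp (hxs.trans haP)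
  haveI : FaithfulSMul Lm F := (faithfulSMul_iff_algebraMap_injective Lm F).mpr hinjm
  haveI : IsFractionRing Lm F := by
    refine IsFractionRing.of_field Lm F fun w => ?_
    obtain ⟨a, b, -, hab⟩ := IsFractionRing.div_surjective (L ⧸ P₀) w
    obtain ⟨a, rfl⟩ := Ideal.Quotient.mk_surjective a
    obtain ⟨b, rfl⟩ := Ideal.Quotient.mk_surjective b
    exact ⟨algebraMap L Lm a, algebraMap L Lm b, by
      rw [← IsScalarTower.algebraMap_apply, ← IsScalarTower.algebraMap_apply, hab.symm]; rfl⟩
  have hint : IsIntegral Lm (z P0 : F) :=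
    (hz.map (Pi.evalAlgHom L (fun P : minimalPrimes L => FractionRing (L ⧸ P.1)) P0)).tower_top
  obtain ⟨y, hy⟩ := IsIntegrallyClosed.algebraMap_eq_of_integral hint
  obtain ⟨⟨a, s⟩, hys⟩ := IsLocalization.surj m.primeCompl y
  have : u * (s : L) ∈ I := by
    refine ⟨u * a, fun P => ?_⟩
    by_cases hP : P.1 = P₀
    · obtain rfl : P = P0 := Subtype.ext hP
      rw [mul_smul, Algebra.smul_def, Algebra.smul_def, map_mul]
      congr 1
      show algebraMap L F s * (z P0 : F) = algebraMap L F a
      rw [IsScalarTower.algebraMap_apply L Lm F s, IsScalarTower.algebraMap_apply L Lm F a, ← hy,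
        ← map_mul, ← hys, mul_comm]
    · have hu0 : algebraMap L (FractionRing (L ⧸ P.1)) u = 0 := by
        rw [IsScalarTower.algebraMap_apply L (L ⧸ P.1), Ideal.Quotient.algebraMap_eq,
          Ideal.Quotient.eq_zero_iff_mem.mpr, map_zero]
        exact Ideal.mem_of_dvd _ (Finset.dvd_prod_of_mem g (Finset.mem_filter.mpr ⟨Finset.mem_univ _, hP⟩)) (hg1 P hP)
      rw [Algebra.smul_def, map_mul, map_mul, hu0, zero_mul, zero_mul, zero_mul]
  exact hm.isPrime.mul_notMem hu s.2 (hIm this)

set_option maxHeartbeats 800000 in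
set_option synthInstance.maxHeartbeats 100000 in
/-- A Noetherian normal ring is integrally closed in an absolutely flat overring. -/
theorem exists_absFlat_overring (L : Type u) [CommRing L] [IsNoetherianRing L]
    (hL : ∀ (P : Ideal L) [P.IsPrime], IsDomain (Localization.AtPrime P) ∧ IsIntegrallyClosed (Localization.AtPrime P)) :
    ∃ (L' : Type u) (_ : CommRing L') (_ : Algebra L L'), Function.Injective (algebraMap L L') ∧
      (∀ a : L', ∃ a', a * a * a' = a) ∧ ∀ z : L', IsIntegral L z → ∃ l, algebraMap L L' l = z := by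
  classical
  haveI : ∀ P : minimalPrimes L, P.1.IsPrime := fun P => P.2.1.1
  let L' := ∀ P : minimalPrimes L, FractionRing (L ⧸ P.1)
  have hinjL : Function.Injective (algebraMap L L') := by
    rw [injective_iff_map_eq_zero]
    intro l hl
    by_contra hne
    let I : Ideal L := Submodule.colon (⊥ : Ideal L) {l}
    have hI : I ≠ ⊤ := fun h => hne (by
      have : (1 : L) ∈ I := h ▸ trivial
      simpa [I] using this)
    obtain ⟨m, hm, hIm⟩ := Ideal.exists_le_maximal I hI
    obtain ⟨P₀, hP₀, hP₀m⟩ := Ideal.exists_minimalPrimes_le (bot_le : (⊥ : Ideal L) ≤ m)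
    haveI := (hL m).1
    haveI : (RingHom.ker (algebraMap L (Localization.AtPrime m))).IsPrime := RingHom.ker_isPrime _
    have h0 : algebraMap L (FractionRing (L ⧸ P₀)) l = 0 := congrFun hl ⟨P₀, hP₀⟩
    haveI := hP₀.1.1
    rw [IsScalarTower.algebraMap_apply L (L ⧸ P₀)] at h0
    have hlP := Ideal.Quotient.eq_zero_iff_mem.mp ((map_eq_zero_iff _ (IsFractionRing.injective _ _)).mp h0)
    have hk : RingHom.ker (algebraMap L (Localization.AtPrime m)) ≤ P₀ := fun x hx => by
      obtain ⟨s, hs⟩ := (IsLocalization.map_eq_zero_iff m.primeCompl (Localization.AtPrime m) x).mp hx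
      exact (hP₀.1.1.mem_or_mem (hs ▸ P₀.zero_mem : (s : L) * x ∈ P₀)).resolve_left fun h => s.2 (hP₀m h)
    have hl0 := hP₀.2 ⟨inferInstance, bot_le⟩ hk hlP
    obtain ⟨s, hs⟩ := (IsLocalization.map_eq_zero_iff m.primeCompl (Localization.AtPrime m) l).mp hl0
    exact s.2 (hIm (by simpa [I] using hs))
  refine ⟨L', inferInstance, inferInstance, hinjL, GrothLib.Hensel.exists_mul_mul_eq_pi _, fun z hz => ?_⟩
  obtain ⟨l, hl⟩ := exists_eq_of_isIntegral_pi L hL z hz
  exact ⟨l, funext fun P => (hl P).symm⟩

/-- Smooth algebras over a normal domain are normal. -/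
theorem normal_of_smooth_domain (R : Type u) [CommRing R] [IsDomain R] [IsIntegrallyClosed R]
    {E : Type u} [CommRing E] [Algebra R E] [Algebra.Smooth R E] (q : Ideal E) [q.IsPrime] :
    IsDomain (Localization.AtPrime q) ∧ IsIntegrallyClosed (Localization.AtPrime q) := by
  classical
  let K := FractionRing R
  let L := K ⊗[R] E
  haveI : Algebra.Smooth K L := inferInstance
  haveI : IsNoetherianRing L := Algebra.FiniteType.isNoetherianRing K L
  have hL : ∀ (P : Ideal L) [P.IsPrime],
      IsDomain (Localization.AtPrime P) ∧ IsIntegrallyClosed (Localization.AtPrime P) := fun P _ => by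
    haveI : Algebra.FormallySmooth L (Localization.AtPrime P) := Algebra.FormallySmooth.of_isLocalization P.primeCompl
    haveI : Algebra.IsSmoothAt K P := Algebra.FormallySmooth.comp K L (Localization.AtPrime P)
    haveI := GrothLib.Serre.isRegularLocalRing_of_isSmoothAt (k := K) P
    exact ⟨GrothLib.CMFree.isDomain_of_isRegularLocalRing (Localization.AtPrime P),
      GrothLib.RegLoc.isIntegrallyClosed_of_isRegularLocalRing (Localization.AtPrime P)⟩
  obtain ⟨L', _, _, hinjL, hregL, hintL⟩ := exists_absFlat_overring L hL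
  let incl : E →+* L := (Algebra.TensorProduct.includeRight : E →ₐ[R] L).toRingHom
  letI algEL : Algebra E L' := ((algebraMap L L').comp incl).toAlgebra
  have hinj0 : Function.Injective incl := Algebra.TensorProduct.includeRight_injective
    (IsFractionRing.injective R K)
  refine normal_localization_of_regular (L := L') ?_ hregL ?_ q
  · exact hinjL.comp hinj0
  · intro z hz
    have hzL : IsIntegral L z := by
      obtain ⟨p, hp, hpz⟩ := hz
      refine ⟨p.map incl, hp.map incl, ?_⟩
      rw [Polynomial.eval₂_map]; exact hpz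
    obtain ⟨l, hl'⟩ := hintL z hzL
    have hlE : incl.IsIntegralElem l := by
      obtain ⟨p, hp, hpz⟩ := hz
      refine ⟨p, hp, hinjL ?_⟩
      rw [Polynomial.hom_eval₂, hl', map_zero]; exact hpz
    let c := Algebra.TensorProduct.comm R K E
    have hc : ∀ e : E, c (incl e) = algebraMap E (E ⊗[R] K) e := fun e => by
      show c ((1 : K) ⊗ₜ[R] e) = e ⊗ₜ[R] (1 : K)
      exact Algebra.TensorProduct.comm_tmul R (1 : K) e
    have hlE' : IsIntegral E (c l : E ⊗[R] K) := by
      obtain ⟨p, hp, hpz⟩ := hlE
      refine ⟨p, hp, ?_⟩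
      have h := congrArg c.toAlgHom.toRingHom hpz
      rw [Polynomial.hom_eval₂, map_zero] at h
      rw [show c.toAlgHom.toRingHom.comp incl = algebraMap E (E ⊗[R] K) from RingHom.ext hc] at h
      exact h
    obtain ⟨w, hw⟩ := (TensorProduct.toIntegralClosure_bijective_of_smooth (R := R) (S := E)
      (B := K)).2 ⟨c l, hlE'⟩
    have hw' : Algebra.TensorProduct.map (AlgHom.id E E) (integralClosure R K).val w = c l :=
      congrArg Subtype.val hw
    have key : ∀ w : E ⊗[R] (integralClosure R K), ∃ e : E,
        algebraMap E (E ⊗[R] K) e = Algebra.TensorProduct.map (AlgHom.id E E) (integralClosure R K).val w := by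
      intro w
      induction w using TensorProduct.induction_on with
      | zero => exact ⟨0, by simp⟩
      | tmul s k =>
        obtain ⟨r, hr⟩ := IsIntegrallyClosed.algebraMap_eq_of_integral (K := K) k.2
        refine ⟨r • s, ?_⟩
        rw [Algebra.TensorProduct.map_tmul, AlgHom.id_apply, Subalgebra.coe_val, ← hr,
          Algebra.algebraMap_eq_smul_one r, TensorProduct.tmul_smul, TensorProduct.smul_tmul',
          Algebra.TensorProduct.algebraMap_apply, Algebra.algebraMap_self, RingHom.id_apply]
      | add w w' hw hw' =>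
        obtain ⟨x, hx⟩ := hw
        obtain ⟨x', hx'⟩ := hw'
        exact ⟨x + x', by rw [map_add, map_add, hx, hx']⟩
    obtain ⟨e, he⟩ := key w
    refine ⟨e, ?_⟩
    show algebraMap L L' (incl e) = z
    rw [← hl']; congr 1
    apply c.injective
    rw [← hw', ← he]; exact hc e

theorem isNormalRing_of_smooth (A B : Type u) [CommRing A] [CommRing B] [Algebra A B] [Algebra.Smooth A B]
    (hA : ∀ (p : Ideal A) [p.IsPrime], IsDomain (Localization.AtPrime p) ∧ IsIntegrallyClosed (Localization.AtPrime p))
    (q : Ideal B) [q.IsPrime] :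
    IsDomain (Localization.AtPrime q) ∧ IsIntegrallyClosed (Localization.AtPrime q) := by
  let p := q.under A
  obtain ⟨hd, hic⟩ := hA p
  let M := Algebra.algebraMapSubmonoid B p.primeCompl
  let Ap := Localization.AtPrime p
  let B' := Localization M
  letI : Algebra Ap B' := localizationAlgebra p.primeCompl B
  haveI : IsScalarTower A Ap B' := IsScalarTower.of_algebraMap_eq fun x => by
    show algebraMap A B' x = IsLocalization.map _ (algebraMap A B) _ (algebraMap A Ap x)
    rw [IsLocalization.map_eq, ← IsScalarTower.algebraMap_apply]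
  haveI : Algebra.IsPushout A Ap B B' := (Algebra.isPushout_of_isLocalization (R := A) p.primeCompl Ap B B').symm
  haveI : Algebra.Smooth Ap B' :=
    Algebra.Smooth.of_equiv (Algebra.IsPushout.equiv A Ap B B')
  have disj : Disjoint (M : Set B) (q : Set B) := by
    refine Set.disjoint_left.mpr ?_
    rintro _ ⟨a, ha, rfl⟩ haP
    exact ha haP
  let Q := q.map (algebraMap B B')
  haveI : Q.IsPrime := IsLocalization.isPrime_of_isPrime_disjoint M _ _ ‹_› disj
  haveI : IsLocalization.AtPrime (Localization.AtPrime Q) q := by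
    convert IsLocalization.isLocalization_isLocalization_atPrime_isLocalization M
      (Localization.AtPrime Q) Q
    exact (IsLocalization.under_map_of_isPrime_disjoint M _ ‹_› disj).symm
  obtain ⟨h1, h2⟩ := normal_of_smooth_domain Ap Q
  let e := (IsLocalization.algEquiv q.primeCompl (Localization.AtPrime Q) (Localization.AtPrime q)).toRingEquiv
  exact ⟨e.symm.injective.isDomain, IsIntegrallyClosed.of_equiv e⟩

theorem isNormalRing_of_faithfullyFlat (A B : Type u) [CommRing A] [CommRing B] [Algebra A B]
    [Module.FaithfullyFlat A B]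
    (hB : ∀ (q : Ideal B) [q.IsPrime], IsDomain (Localization.AtPrime q) ∧ IsIntegrallyClosed (Localization.AtPrime q))
    (p : Ideal A) [p.IsPrime] :
    IsDomain (Localization.AtPrime p) ∧ IsIntegrallyClosed (Localization.AtPrime p) := by
  obtain ⟨⟨q, hq⟩, hqp⟩ := PrimeSpectrum.comap_surjective_of_faithfullyFlat (A := A) (B := B) ⟨p, ‹_›⟩
  haveI : q.LiesOver p := ⟨(congrArg PrimeSpectrum.asIdeal hqp).symm⟩
  letI := Localization.AtPrime.algebraOfLiesOver p q
  haveI : Module.Flat (Localization.AtPrime p) (Localization.AtPrime q) :=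
    (Module.flat_iff_of_isLocalization (Localization.AtPrime p) p.primeCompl _).mpr
      (Module.Flat.trans _ B _)
  obtain ⟨h1, h2⟩ := hB q
  exact GrothLib.EtBasicB.normal_of_normal_target (Localization.AtPrime p) (Localization.AtPrime q)

end GrothLib.NormalSmooth
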